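import Groth.Agent.Lib.Char16.Trace
import Groth.Agent.Lib.HopfAG.LieKolchin
import Groth.Agent.Lib.Hopf.CharZeroReduced
import Groth.Agent.Lib.Comod.Semi
import Groth.Prelude.Def_HopfRep
import Mathlib.RingTheory.TensorProduct.Basic

/-!
# Class functions on linearly reductive groups and characters
-/

universe u v

set_option linter.style.haveILetI false

open TensorProduct HopfRep WithConv GrothLib.Hopf GrothLib.Comodule GrothLib.LieKolchin

namespace GrothLib.Char16

variable {k : Type u} [Field k] [IsAlgClosed k] [CharZero k] {A : Type v} [CommRing A] [HopfAlgebra k A]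

theorem eq_of_point {a b : A} (h : ∀ g : A →ₐ[k] k, g a = g b) : a = b := by
  by_contra hne
  obtain ⟨g, hg⟩ := CharZeroReduced.exists_point_ne_zero (k := k) (sub_ne_zero.2 hne)
  exact hg (by rw [map_sub, h g, sub_self])

theorem eq_of_point_tensor {a b : A ⊗[k] A}
    (h : ∀ g : A ⊗[k] A →ₐ[k] k, g a = g b) : a = b := by
  by_contra hne
  obtain ⟨g, hg⟩ := CharZeroReduced.exists_point_ne_zero (k := k) (sub_ne_zero.2 hne)
  exact hg (by rw [map_sub, h g, sub_self])

omit [IsAlgClosed k] [CharZero k] in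
theorem comp_convMul {R : Type*} [CommRing R] [Algebra k R] {S : Type*} [CommRing S] [Algebra k S]
    (h : R →ₐ[k] S) (f g : WithConv (A →ₐ[k] R)) :
    toConv (h.comp (f * g).ofConv) = toConv (h.comp f.ofConv) * toConv (h.comp g.ofConv) := by
  refine congrArg toConv (AlgHom.ext fun a => ?_)
  rw [AlgHom.convMul_def]
  simp only [ofConv_toConv, AlgHom.comp_apply]
  induction Bialgebra.comulAlgHom k A a using TensorProduct.induction_on with
  | zero => simp
  | tmul p q => simp
  | add p q hp hq => simp only [map_add, hp, hq]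

omit [IsAlgClosed k] [CharZero k] in
theorem point_comul (χ : A ⊗[k] A →ₐ[k] k) (a : A) :
    χ (Coalgebra.comul (R := k) a) = (toConv (χ.comp (Algebra.TensorProduct.includeLeft : A →ₐ[k] A ⊗[k] A)) *
      toConv (χ.comp (Algebra.TensorProduct.includeRight : A →ₐ[k] A ⊗[k] A))).ofConv a := by
  rw [AlgHom.convMul_def]
  simp only [ofConv_toConv, AlgHom.comp_apply, Bialgebra.comulAlgHom_apply]
  induction Coalgebra.comul (R := k) a using TensorProduct.induction_on with
  | zero => simp
  | tmul p q => simp [← map_mul]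
  | add p q hp hq => simp only [map_add, hp, hq]

/-- A matrix of functions multiplicative on points is a comodule. -/
theorem exists_comod {d : ℕ} (a : Matrix (Fin d) (Fin d) A)
    (h1 : (Bialgebra.counitAlgHom k A).mapMatrix a = 1)
    (hmul : ∀ g g' : WithConv (A →ₐ[k] k),
      (g * g').ofConv.mapMatrix a = g.ofConv.mapMatrix a * g'.ofConv.mapMatrix a) :
    ∃ c : HopfRep.Comod k A (Fin d → k), ∀ l,
      @HopfRep.Comod.coact k A _ _ _ _ (Fin d → k) _ _ c (Pi.single l 1) = ∑ j, Pi.single j 1 ⊗ₜ[k] a j l := by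
  classical
  let b := Pi.basisFun k (Fin d)
  let co : (Fin d → k) →ₗ[k] (Fin d → k) ⊗[k] A := b.constr k fun l => ∑ j, b j ⊗ₜ[k] a j l
  have hco : ∀ l, co (b l) = ∑ j, b j ⊗ₜ[k] a j l := fun l => b.constr_basis ..
  have hΔ : ∀ j l, Coalgebra.comul (R := k) (a j l) = ∑ m, a j m ⊗ₜ[k] a m l := fun j l => by
    refine eq_of_point_tensor fun χ => ?_
    rw [point_comul, map_sum]
    have h := congrFun (congrFun (hmul (toConv (χ.comp Algebra.TensorProduct.includeLeft))
      (toConv (χ.comp Algebra.TensorProduct.includeRight))) j) l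
    rw [Matrix.mul_apply] at h
    refine h.trans (Finset.sum_congr rfl fun m _ => ?_)
    simp [← map_mul]
  refine ⟨{ coact := co, coassoc := b.ext fun l => ?_, counit_comp := b.ext fun l => ?_ }, fun l => ?_⟩
  · simp only [LinearMap.comp_apply, LinearEquiv.coe_coe, hco, map_sum, LinearMap.rTensor_tmul,
      TensorProduct.sum_tmul, TensorProduct.assoc_tmul, LinearMap.lTensor_tmul, hΔ, TensorProduct.tmul_sum]
    exact Finset.sum_comm
  · simp only [LinearMap.comp_apply, hco, map_sum, LinearMap.lTensor_tmul, LinearMap.flip_apply, TensorProduct.mk_apply]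
    rw [Finset.sum_eq_single l]
    · have h : Coalgebra.counit (R := k) (a l l) = (1 : k) := by
        simpa using congrFun (congrFun h1 l) l
      rw [h]
    · intro j _ hj
      have h : Coalgebra.counit (R := k) (a j l) = (0 : k) := by
        simpa [hj] using congrFun (congrFun h1 j) l
      rw [h, TensorProduct.tmul_zero]
    · simp
  · have h := hco l
    simp only [b, Pi.basisFun_apply] at h
    exact h

variable {V : Type*} [AddCommGroup V] [Module k V] [HopfRep.Comod k A V]

omit [IsAlgClosed k] [CharZero k] in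
/-- A linear functional on endomorphisms is a matrix coefficient. -/
theorem exists_coeff [Module.Finite k V] (Ψ : Module.End k V →ₗ[k] k) :
    ∃ a : A, ∀ g : A →ₐ[k] k, g a = Ψ (HopfRep.Comod.act k A V g) := by
  classical
  let b := Module.finBasis k V
  refine ⟨∑ i, ∑ j, Ψ ((LinearMap.toMatrixAlgEquiv b).symm (Matrix.single i j 1)) • univ (A := A) b i j, fun g => ?_⟩
  conv_rhs => rw [← (LinearMap.toMatrixAlgEquiv b).symm_apply_apply (HopfRep.Comod.act k A V g),
    Matrix.matrix_eq_sum_single (LinearMap.toMatrixAlgEquiv b (HopfRep.Comod.act k A V g))]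
  simp only [map_sum, map_smul]
  refine Finset.sum_congr rfl fun i _ => Finset.sum_congr rfl fun j _ => ?_
  have hsingle : Matrix.single i j (LinearMap.toMatrixAlgEquiv b (HopfRep.Comod.act k A V g) i j) =
      LinearMap.toMatrixAlgEquiv b (HopfRep.Comod.act k A V g) i j • Matrix.single i j (1 : k) := by
    rw [Matrix.smul_single, smul_eq_mul, mul_one]
  rw [hsingle, map_smul, map_smul, smul_eq_mul, smul_eq_mul, mul_comm]
  congr 1
  have h := congrFun (congrFun (map_univ b (toConv g)) i) j
  exact h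

omit [IsAlgClosed k] [CharZero k] in
/-- The value of a character at a point is the trace of the point. -/
theorem point_char {d : ℕ} [HopfRep.Comod k A (Fin d → k)] (g : A →ₐ[k] k) :
    g (∑ i : Fin d, TensorProduct.lid k A (LinearMap.rTensor A (LinearMap.proj i)
      (HopfRep.Comod.coact (k := k) (A := A) (Pi.single i (1 : k) : Fin d → k)))) =
      LinearMap.trace k _ (HopfRep.Comod.act k A (Fin d → k) g) := by
  classical
  rw [LinearMap.trace_eq_matrix_trace k (Pi.basisFun k (Fin d)), map_sum, Matrix.trace]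
  refine Finset.sum_congr rfl fun i _ => ?_
  rw [Matrix.diag_apply, LinearMap.toMatrix_apply, Pi.basisFun_repr, Pi.basisFun_apply, ← cfMap_apply,
    GrothLib.Dense.dual_act', LinearMap.proj_apply]

omit [IsAlgClosed k] [CharZero k] in
theorem trace_conj [Module.Finite k V] (x g : WithConv (A →ₐ[k] k)) :
    LinearMap.trace k V (HopfRep.Comod.act k A V
      (x * g * toConv (x.ofConv.comp (HopfAlgebra.antipodeAlgHom k A))).ofConv) =
    LinearMap.trace k V (HopfRep.Comod.act k A V g.ofConv) := by
  rw [act_mul, LinearMap.trace_mul_comm, ← act_mul, ← mul_assoc,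
    show toConv (x.ofConv.comp (HopfAlgebra.antipodeAlgHom k A)) * x = 1 from
      GrothLib.Hopf.comp_antipode_mul x.ofConv, one_mul]

omit [IsAlgClosed k] [CharZero k] in
/-- Invariant functions in the scheme-theoretic and the pointwise sense. -/
theorem point_conjugate (χ : A ⊗[k] A →ₐ[k] k) :
    χ.comp (toConv (Algebra.TensorProduct.includeLeft : A →ₐ[k] A ⊗[k] A) *
        toConv (Algebra.TensorProduct.includeRight : A →ₐ[k] A ⊗[k] A) *
        toConv ((Algebra.TensorProduct.includeLeft : A →ₐ[k] A ⊗[k] A).comp (HopfAlgebra.antipodeAlgHom k A))).ofConv =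
      (toConv (χ.comp Algebra.TensorProduct.includeLeft) * toConv (χ.comp Algebra.TensorProduct.includeRight) *
        toConv ((χ.comp Algebra.TensorProduct.includeLeft).comp (HopfAlgebra.antipodeAlgHom k A))).ofConv := by
  refine toConv_injective ?_
  rw [comp_convMul, comp_convMul, toConv_ofConv]
  rfl

theorem universal_iff (f : A) :
    (toConv (Algebra.TensorProduct.includeLeft : A →ₐ[k] A ⊗[k] A) *
        toConv (Algebra.TensorProduct.includeRight : A →ₐ[k] A ⊗[k] A) *
        toConv ((Algebra.TensorProduct.includeLeft : A →ₐ[k] A ⊗[k] A).comp (HopfAlgebra.antipodeAlgHom k A))).ofConv f =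
        (Algebra.TensorProduct.includeRight : A →ₐ[k] A ⊗[k] A) f ↔
      ∀ x g : WithConv (A →ₐ[k] k),
        (x * g * toConv (x.ofConv.comp (HopfAlgebra.antipodeAlgHom k A))).ofConv f = g.ofConv f := by
  refine ⟨fun h x g => ?_, fun h => eq_of_point_tensor fun χ => ?_⟩
  · let χ : A ⊗[k] A →ₐ[k] k := Algebra.TensorProduct.lift x.ofConv g.ofConv fun a b => Commute.all _ _
    have hl : χ.comp Algebra.TensorProduct.includeLeft = x.ofConv := Algebra.TensorProduct.lift_comp_includeLeft _ _ (fun a b => Commute.all _ _)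
    have hr : χ.comp Algebra.TensorProduct.includeRight = g.ofConv := Algebra.TensorProduct.lift_comp_includeRight _ _ (fun a b => Commute.all _ _)
    have h2 := congrArg χ h
    rw [← AlgHom.comp_apply, ← AlgHom.comp_apply, point_conjugate, hl, hr] at h2
    exact h2
  · rw [← AlgHom.comp_apply, ← AlgHom.comp_apply, point_conjugate]
    exact h (toConv (χ.comp Algebra.TensorProduct.includeLeft)) (toConv (χ.comp Algebra.TensorProduct.includeRight))

/-- Class functions are combinations of characters. -/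
theorem mem_span_char (hred : HopfRep.IsLinearlyReductive k A) (f : A)
    (hf : ∀ x g : WithConv (A →ₐ[k] k),
      (x * g * toConv (x.ofConv.comp (HopfAlgebra.antipodeAlgHom k A))).ofConv f = g.ofConv f) :
    f ∈ Submodule.span k (Set.range fun p : (Σ d : ℕ, HopfRep.Comod k A (Fin d → k)) =>
      ∑ i : Fin p.1, TensorProduct.lid k A (LinearMap.rTensor A (LinearMap.proj i)
        (@HopfRep.Comod.coact k A _ _ _ _ (Fin p.1 → k) _ _ p.2 (Pi.single i 1)))) := by
  classical
  letI : HopfRep.Comod k A A := HopfRep.Comod.regular k A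
  obtain ⟨U, hUfin, hfU, hU⟩ := exists_finite_subcomod (k := k) (C := A) f
  letI := ComodSub.Comod.restr (HopfRep.Comod.regular k A) U hU
  haveI : Module.Finite k U := hUfin
  let Φ : Module.End k U →ₗ[k] k :=
    (Coalgebra.counit (R := k) (A := A)) ∘ₗ U.subtype ∘ₗ LinearMap.applyₗ ⟨f, hfU⟩
  have hΦf : ∀ g : A →ₐ[k] k, g f = Φ (HopfRep.Comod.act k A U g) := fun g => by
    have h := LinearMap.congr_fun
      (eq_cfMap (ComodSub.isComodHom_subtype (HopfRep.Comod.regular k A) U hU)) (⟨f, hfU⟩ : U)
    rw [show f = U.subtype (⟨f, hfU⟩ : U) from rfl, h, GrothLib.Dense.dual_act']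
    rfl
  let ρ : WithConv (A →ₐ[k] k) →* Module.End k U :=
    { toFun := fun g => HopfRep.Comod.act k A U g.ofConv
      map_one' := act_one
      map_mul' := act_mul }
  have hss : ∀ W : Submodule k U, (∀ x, ∀ w ∈ W, ρ x w ∈ W) →
      ∃ W' : Submodule k U, (∀ x, ∀ w ∈ W', ρ x w ∈ W') ∧ IsCompl W W' := fun W hW => by
    have hd : ∀ a : A, (∀ g ∈ (Set.univ : Set (A →ₐ[k] k)), g a = 0) → a = 0 := fun a ha =>
      eq_of_point fun g => by rw [ha g trivial, map_zero]
    obtain ⟨W', hW', hc⟩ := hred U inferInstance W ((GrothLib.Dense.isSubcomod_iff hd W).2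
      fun g _ => by rintro _ ⟨w, hw, rfl⟩; exact hW (toConv g) w hw)
    exact ⟨W', fun x w hw => (GrothLib.Dense.isSubcomod_iff hd W').1 hW' x.ofConv trivial ⟨w, hw, rfl⟩, hc⟩
  have htr : ∀ x y, Φ (ρ x * ρ y) = Φ (ρ y * ρ x) := fun x y => by
    rw [← map_mul, ← map_mul]
    change Φ (HopfRep.Comod.act k A U (x * y).ofConv) = Φ (HopfRep.Comod.act k A U (y * x).ofConv)
    rw [← hΦf, ← hΦf, ← hf x (y * x)]
    congr 2
    rw [← mul_assoc x y x, mul_assoc (x * y),
      show x * toConv (x.ofConv.comp (HopfAlgebra.antipodeAlgHom k A)) = 1 from GrothLib.Hopf.mul_pinv x, mul_one]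
  obtain ⟨n, d, π, c, hπ, hc⟩ := exists_traces ρ hss Φ htr
  choose a ha using fun i (j l : Fin (d i)) => exists_coeff (A := A) (V := U)
    (LinearMap.proj l ∘ₗ LinearMap.proj j ∘ₗ (π i) : Module.End k U →ₗ[k] k)
  have hM : ∀ i (g : A →ₐ[k] k), g.mapMatrix (Matrix.of (a i)) = π i (HopfRep.Comod.act k A U g) := fun i g =>
    Matrix.ext fun j l => ha i j l g
  choose co hco using fun i => exists_comod (k := k) (Matrix.of (a i)) (by
    rw [hM, show HopfRep.Comod.act k A U (Bialgebra.counitAlgHom k A) = 1 from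
      LinearMap.ext fun v => Comod.op_counit v]
    exact (hπ i).1) (fun g g' => by rw [hM, hM, hM]; exact (hπ i).2 g g')
  have hchar : ∀ i, ∀ g : A →ₐ[k] k, g (∑ t : Fin (d i), a i t t) = (π i (HopfRep.Comod.act k A U g)).trace := by
    intro i g
    rw [map_sum, ← hM, Matrix.trace]
    rfl
  have hfeq : f = ∑ i, c i • ∑ t : Fin (d i), a i t t := eq_of_point fun g => by
    rw [hΦf g, map_sum]
    refine (hc (toConv g)).trans (Finset.sum_congr rfl fun i _ => ?_)
    rw [map_smul, hchar, smul_eq_mul]
    rfl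
  rw [hfeq]
  refine Submodule.sum_mem _ fun i _ => Submodule.smul_mem _ _ (Submodule.subset_span ⟨⟨d i, co i⟩, ?_⟩)
  refine Finset.sum_congr rfl fun t _ => ?_
  dsimp only
  rw [hco, map_sum, map_sum, Finset.sum_eq_single t]
  · simp
  · intro j _ hj
    simp [Pi.single_eq_of_ne' hj]
  · simp

/-- Characters of pairwise non-isomorphic simple comodules are independent. -/
theorem linearIndependent_char {n : ℕ} {d : Fin n → ℕ} (c : ∀ i, HopfRep.Comod k A (Fin (d i) → k))
    (hs : ∀ i, @HopfRep.IsSimpleComod k A _ _ _ _ (Fin (d i) → k) _ _ (c i))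
    (hne : ∀ i j, i ≠ j → ∀ P : (Fin (d i) → k) ≃ₗ[k] (Fin (d j) → k),
      LinearMap.rTensor A P.toLinearMap ∘ₗ @HopfRep.Comod.coact k A _ _ _ _ (Fin (d i) → k) _ _ (c i) ≠
        (@HopfRep.Comod.coact k A _ _ _ _ (Fin (d j) → k) _ _ (c j)) ∘ₗ P.toLinearMap) :
    LinearIndependent k (fun i : Fin n => ∑ t : Fin (d i), TensorProduct.lid k A (LinearMap.rTensor A (LinearMap.proj t)
      (@HopfRep.Comod.coact k A _ _ _ _ (Fin (d i) → k) _ _ (c i) (Pi.single t 1)))) := by
  classical
  have hd : ∀ a : A, (∀ g ∈ (Set.univ : Set (A →ₐ[k] k)), g a = 0) → a = 0 := fun a ha =>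
    eq_of_point fun g => by rw [ha g trivial, map_zero]
  let ρ : ∀ i, WithConv (A →ₐ[k] k) →* Module.End k (Fin (d i) → k) := fun i =>
    letI := c i
    { toFun := fun g => HopfRep.Comod.act k A (Fin (d i) → k) g.ofConv
      map_one' := act_one
      map_mul' := act_mul }
  rw [Fintype.linearIndependent_iff]
  intro a ha
  refine congrFun (eq_zero_of_sum_trace ρ (fun i => ?_) (fun i j hij P hP => hne i j hij P ?_) a fun x => ?_)
  · letI := c i
    exact ⟨(hs i).1, fun W hW => (hs i).2 W ((GrothLib.Dense.isSubcomod_iff hd W).2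
      fun g _ => by rintro _ ⟨w, hw, rfl⟩; exact hW (toConv g) w hw)⟩
  · letI := c i
    letI := c j
    refine LinearMap.ext fun v => Comodule.ext_dual_left fun φ => ?_
    refine eq_of_point (k := k) fun g => ?_
    have hl : TensorProduct.lid k A (φ.rTensor A (LinearMap.rTensor A P.toLinearMap
        (HopfRep.Comod.coact (k := k) (A := A) v))) = cfMap (φ ∘ₗ P.toLinearMap) v := by
      rw [cfMap_apply, LinearMap.rTensor_comp]
      rfl
    simp only [LinearMap.comp_apply]
    rw [hl, GrothLib.Dense.dual_act', ← cfMap_apply, GrothLib.Dense.dual_act', LinearMap.comp_apply]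
    exact congrArg φ (LinearMap.congr_fun (hP (toConv g)) v)
  · have h := congrArg x.ofConv ha
    rw [map_sum, map_zero] at h
    refine (Finset.sum_congr rfl fun i _ => ?_).trans h
    letI := c i
    rw [map_smul, smul_eq_mul]
    exact congrArg (a i * ·) (point_char x.ofConv).symm

end GrothLib.Char16
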