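import Groth.Prelude.Def_CoactBr
import Mathlib.CategoryTheory.Monoidal.Cartesian.Basic

/-!
# Scheme-valued points and identities of functions
-/

universe u

set_option linter.style.haveILetI false
set_option backward.isDefEq.respectTransparency false
set_option backward.isDefEq.respectTransparency.types false

open CategoryTheory AlgebraicGeometry MonoidalCategory CartesianMonoidalCategory MonObj GrpObj Opposite TensorProduct

namespace GrothLib.Char16

variable {R : Type u} [CommRing R]

attribute [local instance] CoactBr.braidedAlgSpecOf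

theorem pt_mul {A K : Type u} [CommRing A] [Bialgebra R A] [CommRing K] [Algebra R K]
    (a b : WithConv (A →ₐ[R] K)) : CoactBr.pt (a * b).ofConv = CoactBr.pt a.ofConv * CoactBr.pt b.ofConv :=
  map_mul Spec.mapMulEquiv a b

theorem appTop_pt {B C : Type u} [CommRing B] [Algebra R B] [CommRing C] [Algebra R C] {T : Over (Spec (CommRingCat.of R))}
    (t : T ⟶ CoactBr.sp R C) (φ : B →ₐ[R] C) (b : B) :
    (t ≫ CoactBr.pt φ).left.appTop ((Scheme.ΓSpecIso (CommRingCat.of B)).inv b) =
      t.left.appTop ((Scheme.ΓSpecIso (CommRingCat.of C)).inv (φ b)) := by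
  have e : (t ≫ CoactBr.pt φ).left = t.left ≫ Spec.map (CommRingCat.ofHom φ.toRingHom) := rfl
  rw [e, Scheme.Hom.comp_appTop]
  have h : (Scheme.ΓSpecIso (CommRingCat.of B)).inv ≫ (Spec.map (CommRingCat.ofHom φ.toRingHom)).appTop =
      CommRingCat.ofHom φ.toRingHom ≫ (Scheme.ΓSpecIso (CommRingCat.of C)).inv :=
    (Scheme.ΓSpecIso_inv_naturality _).symm
  exact congrArg t.left.appTop (ConcreteCategory.congr_hom h b)

variable (A : Type u) [CommRing A]

/-- A pair of points factors through the universal pair. -/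
theorem exists_pair [Algebra R A] {T : Over (Spec (CommRingCat.of R))} (x g : T ⟶ CoactBr.sp R A) :
    ∃ t : T ⟶ CoactBr.sp R (A ⊗[R] A),
      t ≫ CoactBr.pt (Algebra.TensorProduct.includeLeft : A →ₐ[R] A ⊗[R] A) = x ∧
      t ≫ CoactBr.pt (Algebra.TensorProduct.includeRight : A →ₐ[R] A ⊗[R] A) = g := by
  let X : (CommAlgCat.{u} R)ᵒᵖ := op (.of R A)
  refine ⟨lift x g ≫ Functor.LaxMonoidal.μ (algSpec (CommRingCat.of R)) X X, ?_, ?_⟩
  · change (lift x g ≫ Functor.LaxMonoidal.μ (algSpec (CommRingCat.of R)) X X) ≫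
      (algSpec (CommRingCat.of R)).map (fst X X) = x
    rw [Category.assoc, Functor.Monoidal.μ_fst]
    exact lift_fst x g
  · change (lift x g ≫ Functor.LaxMonoidal.μ (algSpec (CommRingCat.of R)) X X) ≫
      (algSpec (CommRingCat.of R)).map (snd X X) = g
    rw [Category.assoc, Functor.Monoidal.μ_snd]
    exact lift_snd x g

/-- Invariance under conjugation on all points is invariance at the universal pair. -/
theorem forall_conj_iff [HopfAlgebra R A] (f : A) :
    (∀ (T : Over (Spec (CommRingCat.of R))) (x g : T ⟶ CoactBr.sp R A),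
        (x * g * x⁻¹).left.appTop ((Scheme.ΓSpecIso (CommRingCat.of A)).inv f) =
          g.left.appTop ((Scheme.ΓSpecIso (CommRingCat.of A)).inv f)) ↔
      (WithConv.toConv (Algebra.TensorProduct.includeLeft : A →ₐ[R] A ⊗[R] A) *
        WithConv.toConv (Algebra.TensorProduct.includeRight : A →ₐ[R] A ⊗[R] A) *
        WithConv.toConv ((Algebra.TensorProduct.includeLeft : A →ₐ[R] A ⊗[R] A).comp
          (HopfAlgebra.antipodeAlgHom R A))).ofConv f =
        (Algebra.TensorProduct.includeRight : A →ₐ[R] A ⊗[R] A) f := by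
  set inl : A →ₐ[R] A ⊗[R] A := Algebra.TensorProduct.includeLeft
  set inr : A →ₐ[R] A ⊗[R] A := Algebra.TensorProduct.includeRight
  have hu : CoactBr.pt inl * CoactBr.pt inr * (CoactBr.pt inl)⁻¹ = CoactBr.pt
      (WithConv.toConv inl * WithConv.toConv inr *
        WithConv.toConv (inl.comp (HopfAlgebra.antipodeAlgHom R A))).ofConv := by
    rw [pt_mul, pt_mul, CoactBr.pt_inv]
  refine ⟨fun h => ?_, fun h T x g => ?_⟩
  · have h1 := h _ (CoactBr.pt inl) (CoactBr.pt inr)
    rw [hu, ← Category.id_comp (CoactBr.pt _), appTop_pt, ← Category.id_comp (CoactBr.pt inr), appTop_pt] at h1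
    rw [Over.id_left, Scheme.Hom.id_appTop] at h1
    exact (ConcreteCategory.bijective_of_isIso (Scheme.ΓSpecIso (CommRingCat.of (A ⊗[R] A))).inv).1 h1
  · obtain ⟨t, hx, hg⟩ := exists_pair A x g
    rw [← hx, ← hg, ← GrpObj.comp_inv, ← MonObj.comp_mul, ← MonObj.comp_mul, hu, appTop_pt, appTop_pt, h]

end GrothLib.Char16
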