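import Mathlib.LinearAlgebra.Trace
import Mathlib.RingTheory.SimpleModule.Basic
import Mathlib.RingTheory.SimpleModule.WedderburnArtin
import Mathlib.RingTheory.SimpleModule.IsAlgClosed
import Mathlib.RingTheory.Artinian.Module
import Mathlib.Algebra.Module.PUnit

/-!
# Tracial functionals and independence of traces for semisimple representations of monoids
-/

universe u v w

namespace GrothLib.Char16

variable {k : Type u} [Field k] {M : Type v} [Monoid M]

/-- A tracial functional on a matrix algebra is a multiple of the trace. -/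
theorem exists_eq_smul_trace {d : ℕ} (Φ : Matrix (Fin d) (Fin d) k →ₗ[k] k)
    (h : ∀ a b, Φ (a * b) = Φ (b * a)) : ∃ c : k, ∀ a, Φ a = c * a.trace := by
  classical
  rcases Nat.eq_zero_or_pos d with rfl | hd
  · exact ⟨0, fun a => by rw [Subsingleton.elim a 0]; simp⟩
  let i₀ : Fin d := ⟨0, hd⟩
  refine ⟨Φ (Matrix.single i₀ i₀ 1), fun a => ?_⟩
  have h1 : ∀ i j, Φ (Matrix.single i j 1) = if i = j then Φ (Matrix.single i₀ i₀ 1) else 0 := by
    intro i j
    have e := h (Matrix.single i i₀ 1) (Matrix.single i₀ j 1)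
    rw [Matrix.single_mul_single_same, one_mul] at e
    rw [e]
    by_cases hij : i = j
    · rw [hij, if_pos rfl, Matrix.single_mul_single_same, one_mul]
    · rw [if_neg hij, Matrix.single_mul_single_of_ne (h := Ne.symm hij), map_zero]
  conv_lhs => rw [Matrix.matrix_eq_sum_single a, map_sum]
  rw [Matrix.trace, Finset.mul_sum]
  refine Finset.sum_congr rfl fun i _ => ?_
  rw [map_sum]
  have h2 : ∀ j, Φ (Matrix.single i j (a i j)) = a i j * Φ (Matrix.single i j 1) := fun j => by
    rw [← smul_eq_mul, ← map_smul, Matrix.smul_single, smul_eq_mul, mul_one]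
  rw [Finset.sum_eq_single i]
  · rw [h2, h1, if_pos rfl, mul_comm]; rfl
  · intro j _ hj
    rw [h2, h1, if_neg (Ne.symm hj), mul_zero]
  · simp

variable {V : Type w} [AddCommGroup V] [Module k V]

/-- The image algebra of a semisimple representation is semisimple. -/
theorem isSemisimpleRing_adjoin [Module.Finite k V] (ρ : M →* Module.End k V)
    (hss : ∀ W : Submodule k V, (∀ x, ∀ w ∈ W, ρ x w ∈ W) →
      ∃ W' : Submodule k V, (∀ x, ∀ w ∈ W', ρ x w ∈ W') ∧ IsCompl W W') :
    IsSemisimpleRing (Algebra.adjoin k (Set.range ρ)) := by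
  set B := Algebra.adjoin k (Set.range ρ)
  haveI : IsSemisimpleModule ↥B V := by
    refine { exists_isCompl := fun N => ?_ }
    obtain ⟨W', hW', hc⟩ := hss (N.restrictScalars k) fun x w hw =>
      N.smul_mem (⟨ρ x, Algebra.subset_adjoin (Set.mem_range_self x)⟩ : ↥B) hw
    have hinv : ∀ b : ↥B, ∀ w ∈ W', (b : Module.End k V) w ∈ W' := by
      rintro ⟨b, hb⟩
      induction hb using Algebra.adjoin_induction with
      | mem b hb => obtain ⟨x, rfl⟩ := hb; exact hW' x
      | algebraMap c => intro w hw; exact W'.smul_mem c hw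
      | add b b' _ _ hb hb' => intro w hw; exact W'.add_mem (hb w hw) (hb' w hw)
      | mul b b' _ _ hb hb' => intro w hw; exact hb _ (hb' w hw)
    let N' : Submodule ↥B V :=
      { W'.toAddSubmonoid with smul_mem' := fun b w hw => hinv b w hw }
    refine ⟨N', ?_⟩
    rw [isCompl_iff, disjoint_iff, codisjoint_iff] at hc ⊢
    refine ⟨SetLike.ext fun v => ?_, SetLike.ext fun v => ?_⟩
    · exact SetLike.ext_iff.1 hc.1 v
    · refine ⟨fun _ => trivial, fun _ => ?_⟩
      obtain ⟨a, ha, b, hb, e⟩ := Submodule.mem_sup.1 (hc.2.symm ▸ trivial : v ∈ N.restrictScalars k ⊔ W')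
      exact Submodule.mem_sup.2 ⟨a, ha, b, hb, e⟩
  let b := Module.finBasis k V
  let ι : ↥B →ₗ[↥B] (Fin (Module.finrank k V) → V) :=
    { toFun := fun x j => (x : Module.End k V) (b j)
      map_add' := fun x y => rfl
      map_smul' := fun x y => rfl }
  exact IsSemisimpleModule.of_injective ι fun x y h => Subtype.ext (b.ext fun j => congrFun h j)

/-- A tracial functional on a semisimple representation is a combination of traces of quotient
representations in matrices. -/
theorem exists_traces [IsAlgClosed k] [Module.Finite k V] (ρ : M →* Module.End k V)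
    (hss : ∀ W : Submodule k V, (∀ x, ∀ w ∈ W, ρ x w ∈ W) →
      ∃ W' : Submodule k V, (∀ x, ∀ w ∈ W', ρ x w ∈ W') ∧ IsCompl W W')
    (Φ : Module.End k V →ₗ[k] k) (hΦ : ∀ x y, Φ (ρ x * ρ y) = Φ (ρ y * ρ x)) :
    ∃ (n : ℕ) (d : Fin n → ℕ) (π : ∀ i, Module.End k V →ₗ[k] Matrix (Fin (d i)) (Fin (d i)) k) (c : Fin n → k),
      (∀ i, π i 1 = 1 ∧ ∀ x y, π i (ρ (x * y)) = π i (ρ x) * π i (ρ y)) ∧
        ∀ x, Φ (ρ x) = ∑ i, c i * (π i (ρ x)).trace := by
  classical
  haveI := isSemisimpleRing_adjoin ρ hss
  set B := Algebra.adjoin k (Set.range ρ)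
  haveI : FiniteDimensional k ↥B := FiniteDimensional.of_injective B.val.toLinearMap Subtype.val_injective
  obtain ⟨n, d, -, ⟨e⟩⟩ := IsSemisimpleRing.exists_algEquiv_pi_matrix_of_isAlgClosed k ↥B
  have htr : ∀ a b : ↥B, Φ ((a : Module.End k V) * b) = Φ ((b : Module.End k V) * a) := by
    rintro ⟨a, ha⟩
    induction ha using Algebra.adjoin_induction with
    | mem a ha =>
      obtain ⟨x, rfl⟩ := ha
      rintro ⟨b, hb⟩
      have hb' : b ∈ Submodule.span k (Set.range ρ) := by
        have h := (Algebra.adjoin_eq_span (R := k) (Set.range ρ)).le hb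
        rwa [show (Submonoid.closure (Set.range ρ) : Set (Module.End k V)) = Set.range ρ from
          by rw [← MonoidHom.coe_mrange, Submonoid.closure_eq]] at h
      induction hb' using Submodule.span_induction with
      | mem b hmem => obtain ⟨y, hy⟩ := hmem; subst hy; exact hΦ x y
      | zero => simp
      | add b b' h h' hb1 hb2 =>
        simp only at hb1 hb2 ⊢
        rw [mul_add, add_mul, map_add, map_add]
        exact congrArg₂ _ (hb1 (Algebra.span_le_adjoin k _ h)) (hb2 (Algebra.span_le_adjoin k _ h'))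
      | smul c b h hb1 =>
        simp only at hb1 ⊢
        rw [mul_smul_comm, smul_mul_assoc, map_smul, map_smul, hb1 (Algebra.span_le_adjoin k _ h)]
    | algebraMap c => intro b; exact congrArg Φ (Algebra.commutes c (b : Module.End k V))
    | add a a' _ _ h h' => intro b; simp only [add_mul, mul_add, map_add]; exact congrArg₂ _ (h b) (h' b)
    | mul a a' ha ha' h h' =>
      intro b
      have h1 := h (⟨a', ha'⟩ * b)
      have h2 := h' (b * ⟨a, ha⟩)
      simp only [MulMemClass.coe_mul] at h1 h2
      change Φ (a * a' * (b : Module.End k V)) = Φ ((b : Module.End k V) * (a * a'))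
      rw [mul_assoc, h1, mul_assoc, h2, mul_assoc]
  let Φi : ∀ i, Matrix (Fin (d i)) (Fin (d i)) k →ₗ[k] k := fun i =>
    Φ ∘ₗ B.val.toLinearMap ∘ₗ e.symm.toLinearMap ∘ₗ LinearMap.single k (fun j => Matrix (Fin (d j)) (Fin (d j)) k) i
  choose c hc using fun i => exists_eq_smul_trace (Φi i) fun a b => by
    have h : ∀ z : Matrix (Fin (d i)) (Fin (d i)) k, Φi i z = Φ (e.symm (Pi.single i z) : ↥B) := fun z => rfl
    rw [h, h, Pi.single_mul, Pi.single_mul, map_mul, map_mul]
    exact htr _ _
  choose π hπ using fun i => LinearMap.exists_extend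
    (LinearMap.proj i ∘ₗ e.toLinearMap : (Subalgebra.toSubmodule B) →ₗ[k] Matrix (Fin (d i)) (Fin (d i)) k)
  have hπ' : ∀ i (b : ↥B), π i b = e b i := fun i b => LinearMap.congr_fun (hπ i) b
  refine ⟨n, d, π, c, fun i => ⟨?_, fun x y => ?_⟩, fun x => ?_⟩
  · rw [show (1 : Module.End k V) = ((1 : ↥B) : Module.End k V) from rfl, hπ', map_one]; rfl
  · let bx : ↥B := ⟨ρ x, Algebra.subset_adjoin (Set.mem_range_self x)⟩
    let by' : ↥B := ⟨ρ y, Algebra.subset_adjoin ⟨y, rfl⟩⟩
    rw [map_mul, show ρ x * ρ y = ((bx * by' : ↥B) : Module.End k V) from rfl, hπ', map_mul,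
      show ρ x = ((bx : ↥B) : Module.End k V) from rfl, show ρ y = ((by' : ↥B) : Module.End k V) from rfl, hπ', hπ']
    rfl
  · let bx : ↥B := ⟨ρ x, Algebra.subset_adjoin (Set.mem_range_self x)⟩
    rw [show ρ x = ((bx : ↥B) : Module.End k V) from rfl]
    conv_lhs => rw [← e.symm_apply_apply bx, ← Finset.univ_sum_single (e bx)]
    simp only [map_sum, AddSubmonoidClass.coe_finsetSum, hπ']
    exact Finset.sum_congr rfl fun i _ => hc i (e bx i)

/-- Density for a representation which is a sum of simple submodules. -/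
theorem exists_smul_eq [Module.Finite k V] (B : Subalgebra k (Module.End k V)) {ι : Type*}
    (S : ι → Submodule ↥B V) (hS : ∀ i, IsAtom (S i)) (htop : ⨆ i, S i = ⊤) (P : V →+ V)
    (hP : ∀ (f : Module.End ↥B V) w, P (f w) = f (P w)) :
    ∃ b : ↥B, ∀ w, (b : Module.End k V) w = P w := by
  haveI : IsSemisimpleModule ↥B V := isSemisimpleModule_of_isSemisimpleModule_submodule' (p := S)
    (fun i => by
      haveI : IsSimpleModule ↥B ↥(S i) := isSimpleModule_iff_isAtom.2 (hS i)
      infer_instance) htop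
  haveI : Module.Finite (Module.End ↥B V) V := Module.Finite.of_restrictScalars_finite k _ V
  obtain ⟨b, hb⟩ := Module.Finite.toModuleEnd_moduleEnd_surjective
    ({ P with map_smul' := fun f w => hP f w } : Module.End (Module.End ↥B V) V)
  exact ⟨b, fun w => LinearMap.congr_fun hb w⟩

set_option backward.isDefEq.respectTransparency false in
/-- Traces of pairwise non-isomorphic simple representations are independent. -/
theorem eq_zero_of_sum_trace [CharZero k] {n : ℕ} {d : Fin n → ℕ}
    (ρ : ∀ i, M →* Module.End k (Fin (d i) → k))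
    (hs : ∀ i, Nontrivial (Fin (d i) → k) ∧
      ∀ W : Submodule k (Fin (d i) → k), (∀ x, ∀ w ∈ W, ρ i x w ∈ W) → W = ⊥ ∨ W = ⊤)
    (hne : ∀ i j, i ≠ j → ∀ P : (Fin (d i) → k) ≃ₗ[k] (Fin (d j) → k),
      ¬ ∀ x, P.toLinearMap ∘ₗ ρ i x = ρ j x ∘ₗ P.toLinearMap)
    (c : Fin n → k) (h : ∀ x, ∑ i, c i * LinearMap.trace k _ (ρ i x) = 0) : c = 0 := by
  classical
  let ρR : M →* Module.End k (∀ i, Fin (d i) → k) :=
    { toFun := fun x => LinearMap.pi fun j => ρ j x ∘ₗ LinearMap.proj j
      map_one' := LinearMap.ext fun w => funext fun j => by simp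
      map_mul' := fun x y => LinearMap.ext fun w => funext fun j => by simp }
  set B := Algebra.adjoin k (Set.range ρR) with hB
  let mem : ∀ x, ↥B := fun x => ⟨ρR x, Algebra.subset_adjoin (Set.mem_range_self x)⟩
  let comp : Module.End k (∀ i, Fin (d i) → k) →ₗ[k] ∀ j, Module.End k (Fin (d j) → k) :=
    { toFun := fun r j => LinearMap.proj j ∘ₗ r ∘ₗ LinearMap.single k (fun j => Fin (d j) → k) j
      map_add' := fun r s => by funext j; ext; simp
      map_smul' := fun a r => by funext j; ext; simp }
  have hdiag : ∀ r ∈ B, ∀ j w, w j = 0 → r w j = 0 := fun r hr => by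
    induction hr using Algebra.adjoin_induction with
    | mem r hr =>
      obtain ⟨x, hx⟩ := hr
      subst hx
      intro j w hw
      change ρ j x (w j) = 0
      rw [hw, map_zero]
    | algebraMap a =>
      intro j w hw
      change a • w j = 0
      rw [hw, smul_zero]
    | add r r' _ _ h h' =>
      intro j w hw
      change r w j + r' w j = 0
      rw [h j w hw, h' j w hw, add_zero]
    | mul r r' _ _ h h' => intro j w hw; exact h j _ (h' j w hw)
  let S : Fin n → Submodule ↥B (∀ i, Fin (d i) → k) := fun i =>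
    { carrier := {w | ∀ j, j ≠ i → w j = 0}
      add_mem' := fun {a b} ha hb j hj => by simp [Pi.add_apply, ha j hj, hb j hj]
      zero_mem' := fun j _ => rfl
      smul_mem' := fun b w hw j hj => hdiag _ b.2 j w (hw j hj) }
  have hsingle : ∀ i v, (Pi.single i v : ∀ i, Fin (d i) → k) ∈ S i := fun i v j hj => Pi.single_eq_of_ne hj _
  have hSeq : ∀ i, ∀ w ∈ S i, w = Pi.single i (w i) := fun i w hw => funext fun j => by
    by_cases hj : j = i
    · subst hj; rw [Pi.single_eq_same]
    · rw [Pi.single_eq_of_ne hj, hw j hj]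
  have hρsingle : ∀ x i v, mem x • (Pi.single i v : ∀ i, Fin (d i) → k) = Pi.single i (ρ i x v) := fun x i v => funext fun j => by
    change ρ j x ((Pi.single i v : ∀ i, Fin (d i) → k) j) = _
    exact Pi.apply_single (fun j => ⇑(ρ j x)) (fun j => map_zero _) i v j
  have hsimple : ∀ i, IsAtom (S i) := fun i => by
    haveI := (hs i).1
    obtain ⟨v₀, hv₀⟩ := exists_ne (0 : Fin (d i) → k)
    refine ⟨fun e => hv₀ ?_, fun N hN => ?_⟩
    · have h := congrFun ((Submodule.eq_bot_iff _).1 e _ (hsingle i v₀)) i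
      rw [Pi.single_eq_same] at h
      exact h
    let U : Submodule k (Fin (d i) → k) :=
      (N.restrictScalars k).comap (LinearMap.single k (fun j => Fin (d j) → k) i)
    have hmemU : ∀ v, v ∈ U ↔ (Pi.single i v : ∀ i, Fin (d i) → k) ∈ N := fun v => Iff.rfl
    rcases (hs i).2 U (fun x w hw => by
      rw [hmemU, ← hρsingle]
      exact N.smul_mem (mem x) hw) with hU | hU
    · refine (Submodule.eq_bot_iff _).2 fun w hw => ?_
      have h : w i ∈ U := by rw [hmemU, ← hSeq i w (hN.le hw)]; exact hw
      rw [hU, Submodule.mem_bot] at h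
      rw [hSeq i w (hN.le hw), h, Pi.single_zero]
    · refine absurd (le_antisymm hN.le fun w hw => ?_) hN.ne
      have h : w i ∈ U := by rw [hU]; trivial
      rw [hmemU, ← hSeq i w hw] at h
      exact h
  have hhom : ∀ (f : Module.End ↥B (∀ i, Fin (d i) → k)) i j, i ≠ j → ∀ v, f (Pi.single i v) j = 0 := by
    intro f i j hij
    let F : (Fin (d i) → k) →ₗ[k] (Fin (d j) → k) :=
      { toFun := fun v => f (Pi.single i v) j
        map_add' := fun a b => by rw [Pi.single_add, map_add]; rfl
        map_smul' := fun a b => by rw [Pi.single_smul, LinearMap.map_smul_of_tower]; rfl }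
    have hF : ∀ x v, F (ρ i x v) = ρ j x (F v) := fun x v => by
      change f (Pi.single i (ρ i x v)) j = _
      rw [← hρsingle, map_smul]
      rfl
    suffices hz : F = 0 by exact fun v => LinearMap.congr_fun hz v
    by_contra hne0
    have hker : LinearMap.ker F = ⊥ := ((hs i).2 _ fun x w hw => by
      rw [LinearMap.mem_ker, hF, LinearMap.mem_ker.1 hw, map_zero]).resolve_right fun h => hne0 (LinearMap.ker_eq_top.1 h)
    have hran : LinearMap.range F = ⊤ := ((hs j).2 _ fun x w hw => by
      obtain ⟨v, rfl⟩ := hw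
      exact ⟨_, hF x v⟩).resolve_left fun h => hne0 (LinearMap.range_eq_bot.1 h)
    exact hne i j hij (LinearEquiv.ofBijective F ⟨LinearMap.ker_eq_bot.1 hker, LinearMap.range_eq_top.1 hran⟩)
      fun x => LinearMap.ext (hF x)
  funext i₀
  let P : (∀ i, Fin (d i) → k) →+ (∀ i, Fin (d i) → k) := (AddMonoidHom.single (fun j => Fin (d j) → k) i₀).comp (Pi.evalAddMonoidHom _ i₀)
  have hP : ∀ (f : Module.End ↥B (∀ i, Fin (d i) → k)) w, P (f w) = f (P w) := fun f w => by
    conv_lhs => rw [← Finset.univ_sum_single w, map_sum, map_sum]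
    rw [Finset.sum_eq_single i₀ (fun i _ hi => ?_) (by simp)]
    · change Pi.single i₀ (f (Pi.single i₀ (w i₀)) i₀) = f (Pi.single i₀ (w i₀))
      refine (funext fun j => ?_)
      by_cases hj : j = i₀
      · subst hj; rw [Pi.single_eq_same]
      · rw [Pi.single_eq_of_ne hj, hhom f i₀ j (Ne.symm hj)]
    · change (Pi.single i₀ (f (Pi.single i (w i)) i₀) : ∀ i, Fin (d i) → k) = 0
      rw [hhom f i i₀ hi, Pi.single_zero]
  obtain ⟨b, hb⟩ := exists_smul_eq B S hsimple (eq_top_iff.2 fun w _ => by
      rw [← Finset.univ_sum_single w]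
      exact sum_mem fun i _ => le_iSup S i (hsingle i (w i))) P hP
  have hb' : ∀ j, comp (b : Module.End k (∀ i, Fin (d i) → k)) j = if j = i₀ then 1 else 0 := fun j => by
    refine LinearMap.ext fun v => ?_
    have h := congrFun (hb (Pi.single j v)) j
    change (b : Module.End k (∀ i, Fin (d i) → k)) (Pi.single j v) j =
      (Pi.single i₀ ((Pi.single j v : ∀ i, Fin (d i) → k) i₀) : ∀ i, Fin (d i) → k) j at h
    change (b : Module.End k (∀ i, Fin (d i) → k)) (Pi.single j v) j = _
    rw [h]
    by_cases hj : j = i₀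
    · subst hj; simp
    · simp [hj, Pi.single_eq_of_ne hj]
  have hlin : ∀ r ∈ B, ∑ i, c i * LinearMap.trace k _ (comp r i) = 0 := fun r hr => by
    have hr' : r ∈ Submodule.span k (Set.range ρR) := by
      have h := (Algebra.adjoin_eq_span (R := k) (Set.range ρR)).le hr
      rwa [show (Submonoid.closure (Set.range ρR) : Set _) = Set.range ρR from
        by rw [← MonoidHom.coe_mrange, Submonoid.closure_eq]] at h
    induction hr' using Submodule.span_induction with
    | mem r hmem =>
      obtain ⟨x, hx⟩ := hmem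
      subst hx
      refine (Finset.sum_congr rfl fun i _ => ?_).trans (h x)
      congr 2
      refine LinearMap.ext fun v => ?_
      change ρ i x ((Pi.single i v : ∀ i, Fin (d i) → k) i) = _
      rw [Pi.single_eq_same]
    | zero => simp
    | add a b ha hb iha ihb =>
      simp only [map_add, Pi.add_apply, mul_add, Finset.sum_add_distrib]
      rw [iha (Algebra.span_le_adjoin k _ ha), ihb (Algebra.span_le_adjoin k _ hb), add_zero]
    | smul a r hrs ih =>
      simp only [Pi.smul_apply, map_smul, smul_eq_mul, mul_left_comm _ a, ← Finset.mul_sum]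
      rw [ih (Algebra.span_le_adjoin k _ hrs), mul_zero]
  have h0 := hlin b b.2
  rw [Finset.sum_eq_single i₀ (fun j _ hj => by rw [hb', if_neg hj, map_zero, mul_zero]) (by simp), hb', if_pos rfl,
    LinearMap.trace_one, Module.finrank_fin_fun] at h0
  refine (mul_eq_zero.1 h0).resolve_right (Nat.cast_ne_zero.2 fun hd => ?_)
  haveI := (hs i₀).1
  haveI : IsEmpty (Fin (d i₀)) := by rw [hd]; infer_instance
  exact not_nontrivial (Fin (d i₀) → k) inferInstance

end GrothLib.Char16
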